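import Groth.Agent.GrpComp.Identity
import Groth.Agent.LocNoethTop.Basic
import Mathlib.AlgebraicGeometry.Morphisms.ClosedImmersion

/-!
# The connected component of the unit of a group scheme over a local artinian ring
-/

universe u

open CategoryTheory CategoryTheory.Limits MonoidalCategory CartesianMonoidalCategory MonObj AlgebraicGeometry
open scoped CategoryTheory.Obj

set_option backward.isDefEq.respectTransparency false

namespace Groth.Agent.GrpArtCC

open Groth.Agent.GrpComp

section field

variable {k : Type u} [Field k] {G : Over (Spec (CommRingCat.of k))} [GrpObj G]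
  {T : Over (Spec (CommRingCat.of k))}

/-- the identity component is stable under quotients -/
theorem range_div_subset (g h : T ⟶ G) (hg : Set.range g.left ⊆ connectedComponent (ept G))
    (hh : Set.range h.left ⊆ connectedComponent (ept G)) :
    Set.range (g * h⁻¹).left ⊆ connectedComponent (ept G) := by
  obtain ⟨G₀, _, incl, _, hci, hfl, hr, -, -, -⟩ := exists_identity_subgroup G
  have := hci
  have := hfl
  have fac : ∀ a : T ⟶ G, Set.range a.left ⊆ connectedComponent (ept G) → ∃ a' : T ⟶ G₀, a' ≫ incl = a := by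
    intro a ha
    obtain ⟨b, hb⟩ := exists_factor_flat incl.left a.left (hr ▸ ha)
    exact ⟨Over.homMk b (by rw [← Over.w incl, ← Category.assoc, hb, Over.w a]), Over.OverMorphism.ext hb⟩
  obtain ⟨g', rfl⟩ := fac g hg
  obtain ⟨h', rfl⟩ := fac h hh
  rw [← GrpObj.inv_comp, ← MonObj.mul_comp, Over.comp_left, ← hr]
  rintro _ ⟨t, rfl⟩
  exact ⟨(g' * h'⁻¹).left t, rfl⟩

/-- the identity component is stable under conjugation -/
theorem range_conj_subset (g n : T ⟶ G) (hn : Set.range n.left ⊆ connectedComponent (ept G)) :
    Set.range (g * n * g⁻¹).left ⊆ connectedComponent (ept G) := by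
  obtain ⟨G₀, _, incl, _, hci, hfl, hr, hgi, -, -⟩ := exists_identity_subgroup G
  have := hci
  have := hfl
  have := hgi
  obtain ⟨b, hb⟩ := exists_factor_flat incl.left n.left (hr ▸ hn)
  let n' : T ⟶ G₀ := Over.homMk b (by rw [← Over.w incl, ← Category.assoc, hb, Over.w n])
  have hn' : n' ≫ incl = n := Over.OverMorphism.ext hb
  let Φ : G ⊗ G₀ ⟶ G := fst G G₀ * (snd G G₀ ≫ incl) * (fst G G₀)⁻¹
  have hΦ : lift g n' ≫ Φ = g * n * g⁻¹ := by
    rw [MonObj.comp_mul, MonObj.comp_mul, GrpObj.comp_inv, lift_fst, lift_snd_assoc, hn']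
  let p := (fst G G₀).left
  have : GeometricallyIrreducible p := MorphismProperty.pullback_fst G.hom G₀.hom ‹_›
  have key : ∀ w, Φ.left w ∈ connectedComponent (ept G) := by
    intro w
    let s : G ⟶ G ⊗ G₀ := lift (𝟙 G) 1
    have hs : s ≫ fst G G₀ = 𝟙 G := lift_fst _ _
    have h1 : s ≫ Φ = 1 := by
      rw [MonObj.comp_mul, MonObj.comp_mul, GrpObj.comp_inv, lift_fst, lift_snd_assoc, MonObj.one_comp,
        _root_.mul_one, mul_inv_cancel]
    have : IrreducibleSpace ↥(p.fiber (p w)) :=
      GeometricallyIrreducible.geometrically_irreducibleSpace (f := p)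
        (G.left.fromSpecResidueField (p w)) _ _ (IsPullback.of_hasPullback _ _)
    have hF : _root_.IsPreconnected (p ⁻¹' {p w}) := by
      rw [← Scheme.Hom.range_fiberι]
      exact isPreconnected_range (p.fiberι (p w)).continuous
    have hmem : s.left (p w) ∈ p ⁻¹' {p w} := by
      show p (s.left (p w)) = p w
      rw [← Scheme.Hom.comp_apply, ← Over.comp_left, hs]
      rfl
    refine (hF.image _ Φ.left.continuous.continuousOn).subset_connectedComponent ?_ ⟨w, rfl, rfl⟩
    refine ⟨s.left (p w), hmem, ?_⟩
    rw [← Scheme.Hom.comp_apply, ← Over.comp_left, h1, one_apply]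
  rw [← hΦ]
  rintro _ ⟨t, rfl⟩
  rw [Over.comp_left, Scheme.Hom.comp_apply]
  exact key _


/-- connected components are quasi-compact -/
theorem isCompact_connectedComponent (x : G.left) : IsCompact (connectedComponent x) := by
  obtain ⟨U, hU, hxU, -⟩ :=
    exists_isAffineOpen_mem_and_subset (show x ∈ (⊤ : G.left.Opens) from trivial)
  obtain ⟨hcl, hcp⟩ := isClopen_closure' G U hU.isCompact
  exact hcp.of_isClosed_subset isClosed_connectedComponent (hcl.connectedComponent_subset (subset_closure hxU))

end field

variable (A : Type u) [CommRing A] [IsArtinianRing A] [IsLocalRing A]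
  (G : Over (Spec (CommRingCat.of A)))

/-- the closed point -/
noncomputable def cl : Spec (CommRingCat.of (IsLocalRing.ResidueField A)) ⟶ Spec (CommRingCat.of A) :=
  Spec.map (CommRingCat.ofHom (IsLocalRing.residue A))

instance : IsClosedImmersion (cl A) := IsClosedImmersion.spec_of_surjective _ IsLocalRing.residue_surjective

theorem subsingleton_spec : Subsingleton ↥(Spec (CommRingCat.of A)) :=
  ⟨fun p q => PrimeSpectrum.ext ((IsLocalRing.eq_maximalIdeal (IsArtinianRing.isMaximal_of_isPrime p.asIdeal)).trans
    (IsLocalRing.eq_maximalIdeal (IsArtinianRing.isMaximal_of_isPrime q.asIdeal)).symm)⟩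

instance : Surjective (cl A) := by
  have := subsingleton_spec A
  exact ⟨fun a => ⟨IsLocalRing.closedPoint (IsLocalRing.ResidueField A), Subsingleton.elim _ _⟩⟩

/-- the closed fibre is homeomorphic to the total space -/
noncomputable def fibHomeo : ↥((Over.pullback (cl A)).obj G).left ≃ₜ ↥G.left :=
  IsHomeomorph.homeomorph (pullback.fst G.hom (cl A))
    (isHomeomorph_iff_isEmbedding_surjective.2
      ⟨(pullback.fst G.hom (cl A)).isClosedEmbedding.isEmbedding, (pullback.fst G.hom (cl A)).surjective⟩)

theorem fibHomeo_apply (z : ↥((Over.pullback (cl A)).obj G).left) :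
    fibHomeo A G z = pullback.fst G.hom (cl A) z := rfl

theorem image_connectedComponent (z : ↥((Over.pullback (cl A)).obj G).left) :
    fibHomeo A G '' connectedComponent z = connectedComponent (fibHomeo A G z) := by
  refine ((fibHomeo A G).continuous.image_connectedComponent_subset z).antisymm fun y hy => ?_
  refine ⟨(fibHomeo A G).symm y, ?_, (fibHomeo A G).apply_symm_apply y⟩
  have := (fibHomeo A G).symm.continuous.image_connectedComponent_subset (fibHomeo A G z) ⟨y, hy, rfl⟩
  rwa [(fibHomeo A G).symm_apply_apply] at this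

theorem map_apply {T : Over (Spec (CommRingCat.of A))} (g : T ⟶ G)
    (z : ↥((Over.pullback (cl A)).obj T).left) :
    g.left (pullback.fst T.hom (cl A) z) = fibHomeo A G (((Over.pullback (cl A)).map g).left z) := by
  have e : pullback.fst T.hom (cl A) ≫ g.left =
      ((Over.pullback (cl A)).map g).left ≫ pullback.fst G.hom (cl A) := (pullback.lift_fst _ _ _).symm
  rw [fibHomeo_apply]
  exact congrArg (fun k : ((Over.pullback (cl A)).obj T).left ⟶ G.left => k z) e

variable [GrpObj G]

theorem fibHomeo_ept (pt : ↥(𝟙_ (Over (Spec (CommRingCat.of A)))).left) :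
    fibHomeo A G (ept ((Over.pullback (cl A)).obj G)) = η[G].left pt := by
  let T : Over (Spec (CommRingCat.of A)) := 𝟙_ (Over (Spec (CommRingCat.of A)))
  obtain ⟨z, hz⟩ := (pullback.fst T.hom (cl A)).surjective pt
  have h := map_apply A G (1 : T ⟶ G) z
  rw [Functor.map_one, one_apply, hz] at h
  rw [← h, Hom.one_def, Over.comp_left, Scheme.Hom.comp_apply]
  have := subsingleton_spec A
  exact congrArg η[G].left (Subsingleton.elim (α := ↥(Spec (CommRingCat.of A))) _ _)

theorem connectedComponent_unit (pt : ↥(𝟙_ (Over (Spec (CommRingCat.of A)))).left) :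
    fibHomeo A G '' connectedComponent (ept ((Over.pullback (cl A)).obj G)) =
      connectedComponent (η[G].left pt) := by
  rw [image_connectedComponent, fibHomeo_ept A G pt]

theorem range_map_subset {T : Over (Spec (CommRingCat.of A))} (g : T ⟶ G)
    (pt : ↥(𝟙_ (Over (Spec (CommRingCat.of A)))).left)
    (h : Set.range g.left ⊆ connectedComponent (η[G].left pt)) :
    Set.range ((Over.pullback (cl A)).map g).left ⊆ connectedComponent (ept ((Over.pullback (cl A)).obj G)) := by
  rintro _ ⟨z, rfl⟩
  have := h ⟨_, map_apply A G g z⟩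
  rwa [← connectedComponent_unit A G pt, (fibHomeo A G).injective.mem_set_image] at this

theorem range_subset_of_map {T : Over (Spec (CommRingCat.of A))} (g : T ⟶ G)
    (pt : ↥(𝟙_ (Over (Spec (CommRingCat.of A)))).left)
    (h : Set.range ((Over.pullback (cl A)).map g).left ⊆ connectedComponent (ept ((Over.pullback (cl A)).obj G))) :
    Set.range g.left ⊆ connectedComponent (η[G].left pt) := by
  rintro _ ⟨t, rfl⟩
  obtain ⟨z, rfl⟩ := (pullback.fst T.hom (cl A)).surjective t
  rw [map_apply, ← connectedComponent_unit A G pt]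
  exact ⟨_, h ⟨z, rfl⟩, rfl⟩

end Groth.Agent.GrpArtCC
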